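import Mathlib

/-!
# Indices of lattices cut out by diagonal matrices
-/

namespace GrothLib.LatticeIndex

variable {n : ℕ}

theorem exists_sum_eq_gcd {ι : Type*} [DecidableEq ι] (s : Finset ι) (δ : ι → ℤ) :
    ∃ x : ι → ℤ, ∑ i ∈ s, δ i * x i = s.gcd δ := by
  induction s using Finset.induction_on with
  | empty => exact ⟨0, by simp⟩
  | insert a s ha ih =>
    obtain ⟨x, hx⟩ := ih
    let A := Int.gcdA (δ a) (s.gcd δ)
    let B := Int.gcdB (δ a) (s.gcd δ)
    refine ⟨fun i => if i = a then A else B * x i, ?_⟩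
    rw [Finset.sum_insert ha, Finset.gcd_insert, ← Int.coe_gcd, Int.gcd_eq_gcd_ab]
    simp only [if_pos]
    congr 1
    refine Eq.trans ?_ (congrArg (· * B) hx)
    simp only [Finset.sum_mul]
    refine Finset.sum_congr rfl fun i hi => ?_
    rw [if_neg (by rintro rfl; exact ha hi)]
    ring

/-- `D : ℤⁿ → ℤⁿ` multiplying by `δ`. -/
def diag (δ : Fin n → ℤ) : (Fin n → ℤ) →ₗ[ℤ] (Fin n → ℤ) where
  toFun x := fun i => δ i * x i
  map_add' x y := funext fun i => mul_add _ _ _
  map_smul' c x := funext fun i => by simp [mul_left_comm]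

theorem diag_injective {δ : Fin n → ℤ} (hδ : ∀ i, δ i ≠ 0) : Function.Injective (diag δ) :=
  fun _ _ h => funext fun i => mul_left_cancel₀ (hδ i) (congrFun h i)

theorem mem_range_diag {δ : Fin n → ℤ} {x : Fin n → ℤ} :
    x ∈ LinearMap.range (diag δ) ↔ ∀ i, δ i ∣ x i := by
  constructor
  · rintro ⟨y, rfl⟩ i
    exact Dvd.intro _ rfl
  · intro h
    choose y hy using h
    exact ⟨y, funext fun i => (hy i).symm⟩

theorem index_range_diag (δ : Fin n → ℤ) :
    ((LinearMap.range (diag δ)).toAddSubgroup.index : ℤ) = |∏ i, δ i| := by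
  have h : (LinearMap.range (diag δ)).toAddSubgroup =
      AddSubgroup.pi Set.univ fun i => AddSubgroup.zmultiples (δ i) := by
    ext x
    rw [Submodule.mem_toAddSubgroup, mem_range_diag, AddSubgroup.mem_pi]
    simp [Int.mem_zmultiples_iff]
  rw [h, AddSubgroup.index_pi, Finset.abs_prod, Nat.cast_prod]
  refine Finset.prod_congr rfl fun i _ => ?_
  rw [Int.index_zmultiples]
  exact Int.natCast_natAbs _

theorem natCard_quotient {M : Type*} [AddCommGroup M] (P K : Submodule ℤ M) :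
    Nat.card (K ⧸ P.comap K.subtype) = P.toAddSubgroup.relIndex K.toAddSubgroup := rfl

theorem sumCoord_range_diag (δ : Fin n → ℤ) (S : (Fin n → ℤ) →ₗ[ℤ] ℤ) (hS : ∀ x, S x = ∑ i, x i) :
    Submodule.map S (LinearMap.range (diag δ)) = Submodule.span ℤ {Finset.univ.gcd δ} := by
  refine le_antisymm ?_ ((Submodule.span_singleton_le_iff_mem _ _).2 ?_)
  · rintro _ ⟨x, hx, rfl⟩
    rw [hS, Submodule.mem_span_singleton]
    obtain ⟨c, hc⟩ : Finset.univ.gcd δ ∣ ∑ i, x i :=
      Finset.dvd_sum fun i _ => (Finset.gcd_dvd (Finset.mem_univ i)).trans (mem_range_diag.1 hx i)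
    exact ⟨c, by rw [hc, smul_eq_mul, mul_comm]⟩
  · obtain ⟨y, hy⟩ := exists_sum_eq_gcd Finset.univ δ
    exact ⟨diag δ y, ⟨y, rfl⟩, (hS _).trans hy⟩

/-- The index of the sum-zero vectors of the diagonal lattice among all sum-zero vectors. -/
theorem relIndex_diag_ker (hn : 0 < n) (δ : Fin n → ℤ) (hδ : ∀ i, δ i ≠ 0)
    (S : (Fin n → ℤ) →ₗ[ℤ] ℤ) (hS : ∀ x, S x = ∑ i, x i) :
    ((LinearMap.range (diag δ)).toAddSubgroup.relIndex (LinearMap.ker S).toAddSubgroup : ℤ) *
      Finset.univ.gcd δ = |∏ i, δ i| := by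
  set g := Finset.univ.gcd δ
  set R := (LinearMap.range (diag δ)).toAddSubgroup
  have hsup : ((LinearMap.range (diag δ) ⊔ LinearMap.ker S).toAddSubgroup.index : ℤ) = g := by
    rw [← Submodule.comap_map_eq, sumCoord_range_diag δ S hS]
    have hsurj : Function.Surjective S := fun z =>
      ⟨Pi.single ⟨0, hn⟩ z, by rw [hS]; simp⟩
    have h : ((Submodule.span ℤ {g}).comap S).toAddSubgroup =
        (AddSubgroup.zmultiples g).comap S.toAddMonoidHom := by
      ext x
      rw [Submodule.mem_toAddSubgroup, Submodule.mem_comap, AddSubgroup.mem_comap,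
        Submodule.mem_span_singleton, AddSubgroup.mem_zmultiples_iff]
      rfl
    rw [h, AddSubgroup.index_comap_of_surjective _ hsurj, Int.index_zmultiples, Int.natCast_natAbs]
    refine abs_of_nonneg (Int.nonneg_of_normalize_eq_self Finset.normalize_gcd)
  rw [← hsup, ← index_range_diag, ← Nat.cast_mul, Nat.cast_inj]
  rw [show (LinearMap.range (diag δ) ⊔ LinearMap.ker S).toAddSubgroup =
      R ⊔ (LinearMap.ker S).toAddSubgroup from Submodule.sup_toAddSubgroup _ _]
  rw [← AddSubgroup.relIndex_sup_right (H := (LinearMap.ker S).toAddSubgroup) (K := R), sup_comm R]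
  exact AddSubgroup.relIndex_mul_index le_sup_right

/-- The index formula for `ker (S ∘ D) / P` against `ker S / D P`. -/
theorem card_mul_abs_prod (hn : 0 < n) (δ : Fin n → ℤ) (hδ : ∀ i, δ i ≠ 0)
    (S : (Fin n → ℤ) →ₗ[ℤ] ℤ) (hS : ∀ x, S x = ∑ i, x i) (P : Submodule ℤ (Fin n → ℤ))
    (hP : P ≤ LinearMap.ker (S ∘ₗ diag δ)) :
    (P.toAddSubgroup.relIndex (LinearMap.ker (S ∘ₗ diag δ)).toAddSubgroup : ℤ) * |∏ i, δ i| =
      Finset.univ.gcd δ *
        ((P.map (diag δ)).toAddSubgroup.relIndex (LinearMap.ker S).toAddSubgroup : ℤ) := by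
  have h1 : (P.map (diag δ)).toAddSubgroup.relIndex
      ((LinearMap.ker (S ∘ₗ diag δ)).map (diag δ)).toAddSubgroup =
        P.toAddSubgroup.relIndex (LinearMap.ker (S ∘ₗ diag δ)).toAddSubgroup := by
    rw [Submodule.map_toAddSubgroup, Submodule.map_toAddSubgroup]
    exact AddSubgroup.relIndex_map_map_of_injective _ _ (diag_injective hδ)
  have h2 : (LinearMap.ker (S ∘ₗ diag δ)).map (diag δ) =
      LinearMap.range (diag δ) ⊓ LinearMap.ker S := by
    rw [LinearMap.ker_comp, Submodule.map_comap_eq]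
  have h3 : ((LinearMap.range (diag δ) ⊓ LinearMap.ker S).toAddSubgroup).relIndex
      (LinearMap.ker S).toAddSubgroup =
        (LinearMap.range (diag δ)).toAddSubgroup.relIndex (LinearMap.ker S).toAddSubgroup := by
    rw [show (LinearMap.range (diag δ) ⊓ LinearMap.ker S).toAddSubgroup =
      (LinearMap.range (diag δ)).toAddSubgroup ⊓ (LinearMap.ker S).toAddSubgroup from rfl,
      AddSubgroup.inf_relIndex_right]
  rw [← AddSubgroup.relIndex_mul_relIndex (P.map (diag δ)).toAddSubgroup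
      ((LinearMap.ker (S ∘ₗ diag δ)).map (diag δ)).toAddSubgroup (LinearMap.ker S).toAddSubgroup
      (Submodule.map_mono (f := diag δ) hP) (by rw [h2]; exact inf_le_right (a := LinearMap.range (diag δ))),
    h1, h2, h3, ← relIndex_diag_ker hn δ hδ S hS, Nat.cast_mul]
  ring

end GrothLib.LatticeIndex

namespace GrothLib.LatticeIndex

variable {n : ℕ}

/-- The kernel of a matrix of corank one with a primitive kernel vector. -/
theorem ker_eq_span_of_rank (hn : 0 < n) (A : (Fin n → ℤ) →ₗ[ℤ] (Fin n → ℤ))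
    (hA : Module.finrank ℤ (LinearMap.range A) = n - 1) (v : Fin n → ℤ) (hv : A v = 0)
    (hprim : Finset.univ.gcd v = 1) :
    LinearMap.ker A = Submodule.span ℤ {v} := by
  have hker : Module.finrank ℤ (LinearMap.ker A) = 1 := by
    have := (LinearMap.ker A).finrank_quotient_add_finrank
    rw [A.quotKerEquivRange.finrank_eq, hA, Module.finrank_fin_fun] at this
    omega
  obtain ⟨w⟩ : Nonempty (Module.Basis (Fin 1) ℤ (LinearMap.ker A)) :=
    ⟨Module.finBasisOfFinrankEq ℤ _ hker⟩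
  have hspan : ∀ x ∈ LinearMap.ker A, ∃ c : ℤ, c • (w 0 : Fin n → ℤ) = x := fun x hx => by
    refine ⟨w.repr ⟨x, hx⟩ 0, ?_⟩
    have h := congrArg (Subtype.val : LinearMap.ker A → Fin n → ℤ) (w.sum_repr ⟨x, hx⟩)
    simpa using h
  obtain ⟨a, ha⟩ := hspan v hv
  have hunit : IsUnit a := by
    have hdvd : a ∣ Finset.univ.gcd v := Finset.dvd_gcd fun i _ =>
      ⟨(w 0 : Fin n → ℤ) i, by rw [← ha]; simp⟩
    rw [hprim] at hdvd
    exact isUnit_of_dvd_one hdvd
  refine le_antisymm (fun x hx => ?_) ((Submodule.span_singleton_le_iff_mem _ _).2 hv)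
  obtain ⟨c, rfl⟩ := hspan x hx
  obtain ⟨u, rfl⟩ := hunit
  rw [← ha]
  refine Submodule.mem_span_singleton.2 ⟨c * ((u⁻¹ : ℤˣ) : ℤ), ?_⟩
  rw [smul_smul, mul_assoc, Units.inv_mul, mul_one]

theorem natCast_gcd_eq_abs (δ : Fin n → ℤ) :
    ((Finset.univ.gcd δ).natAbs : ℤ) = Finset.univ.gcd δ := by
  rw [Int.natCast_natAbs]
  exact abs_of_nonneg (Int.nonneg_of_normalize_eq_self Finset.normalize_gcd)

/-- `[A ℤⁿ : A D' ℤⁿ] * d' = |det D'|` when `ker A` is spanned by the primitive part of `δ'`. -/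
theorem relIndex_map_range_diag (hn : 0 < n) (A : (Fin n → ℤ) →ₗ[ℤ] (Fin n → ℤ))
    (hA : Module.finrank ℤ (LinearMap.range A) = n - 1) (δ' : Fin n → ℤ) (hδ' : ∀ i, δ' i ≠ 0)
    (hker : A δ' = 0) :
    (((LinearMap.range (diag δ')).map A).toAddSubgroup.relIndex (LinearMap.range A).toAddSubgroup : ℤ) *
      Finset.univ.gcd δ' = |∏ i, δ' i| := by
  obtain ⟨v, hv, hprim⟩ := Finset.extract_gcd δ' (⟨⟨0, hn⟩, Finset.mem_univ _⟩ : (Finset.univ : Finset (Fin n)).Nonempty)
  set g := Finset.univ.gcd δ'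
  have hg : g ≠ 0 := fun h => hδ' ⟨0, hn⟩ (Finset.gcd_eq_zero_iff.1 h _ (Finset.mem_univ _))
  have hvδ : δ' = g • v := funext fun i => hv i (Finset.mem_univ i)
  have hAv : A v = 0 := by
    rw [hvδ, map_smul] at hker
    exact (smul_eq_zero.1 hker).resolve_left hg
  have hkerA := ker_eq_span_of_rank hn A hA v hAv hprim
  set R := (LinearMap.range (diag δ')).toAddSubgroup
  set K := (LinearMap.ker A).toAddSubgroup
  have h1 : ((LinearMap.range (diag δ')).map A).toAddSubgroup.relIndex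
      (LinearMap.range A).toAddSubgroup = (R ⊔ K).index := by
    rw [Submodule.map_toAddSubgroup, LinearMap.range_eq_map A, Submodule.map_toAddSubgroup,
      Submodule.top_toAddSubgroup]
    refine (AddSubgroup.relIndex_map_map A.toAddMonoidHom R ⊤).trans ?_
    rw [top_sup_eq, AddSubgroup.relIndex_top_right]
    rfl
  have h2 : R.relIndex K = g.natAbs := by
    let f : ℤ →+ (Fin n → ℤ) := zmultiplesHom _ v
    have hK : K = (⊤ : AddSubgroup ℤ).map f := by
      ext x
      simp only [K, hkerA, Submodule.mem_toAddSubgroup, Submodule.mem_span_singleton,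
        AddSubgroup.mem_map, AddSubgroup.mem_top, true_and]
      rfl
    rw [hK, ← AddSubgroup.relIndex_comap, AddSubgroup.relIndex_top_right, ← Int.index_zmultiples g]
    congr 1
    ext t
    rw [AddSubgroup.mem_comap, Submodule.mem_toAddSubgroup, mem_range_diag, Int.mem_zmultiples_iff]
    change (∀ i, δ' i ∣ t * v i) ↔ g ∣ t
    constructor
    · intro h
      have hv0 : v ⟨0, hn⟩ ≠ 0 := fun h0 => hδ' ⟨0, hn⟩ (by rw [hv _ (Finset.mem_univ _), h0, mul_zero])
      have := h ⟨0, hn⟩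
      rw [hv _ (Finset.mem_univ _)] at this
      exact (mul_dvd_mul_iff_right hv0).1 this
    · intro h i
      rw [hv i (Finset.mem_univ i)]
      exact mul_dvd_mul_right h _
  rw [h1, ← index_range_diag δ', show g = (g.natAbs : ℤ) from (natCast_gcd_eq_abs δ').symm,
    ← Nat.cast_mul, Nat.cast_inj,
    ← h2, ← AddSubgroup.relIndex_mul_index (le_sup_left : R ≤ R ⊔ K), sup_comm R K,
    AddSubgroup.relIndex_sup_right, mul_comm]

end GrothLib.LatticeIndex
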